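import Groth.Agent.AlgSpLib.FpqcDescent
import Groth.Agent.AlgSpLib.Covers
import Groth.Agent.AlgSpDec.LimDescent
import Groth.Agent.AlgSpDec.Glue
import Groth.Agent.AlgSpDec.MonoRep
import Groth.Agent.Pi1X.UnivInj
import Groth.Agent.GrpSchLib.AntiAffineBC
import Mathlib.Algebra.TrivSqZeroExt.Basic
import Mathlib.AlgebraicGeometry.Morphisms.Etale

/-!
# Quasi-compact monomorphisms which are universally injective on functions are isomorphisms
-/

set_option backward.isDefEq.respectTransparency false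
set_option backward.isDefEq.respectTransparency.types false

universe u

open CategoryTheory CategoryTheory.Limits AlgebraicGeometry Opposite AlgSp

namespace Groth.Agent.AlgSpLib

open scoped TensorProduct

section ring

variable {A C : Type u} [CommRing A] [CommRing C] [Algebra A C]

theorem comap_surjective_of_univInjective (h : Pi1.UnivInjective A C) :
    Function.Surjective (PrimeSpectrum.comap (algebraMap A C)) := fun p => by
  refine (PrimeSpectrum.nontrivial_iff_mem_rangeComap (S := C) p).1 ?_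
  have := (Pi1X.one_tmul_injective h p.asIdeal.ResidueField).nontrivial
  exact (TensorProduct.comm A C p.asIdeal.ResidueField).injective.nontrivial

end ring

variable {S : Scheme.{u}}

theorem isoSpec_inv_appTop' (X : Scheme.{u}) [IsAffine X] :
    X.isoSpec.inv.appTop = (Scheme.ΓSpecIso Γ(X, ⊤)).inv := by
  have h : X.isoSpec.hom.appTop = (Scheme.ΓSpecIso Γ(X, ⊤)).hom := by
    simp [Scheme.isoSpec]
  rw [← cancel_mono X.isoSpec.hom.appTop, ← Scheme.Hom.comp_appTop, Iso.hom_inv_id, h]
  simp

/-- If `v : U ⟶ T` is a map of affine schemes such that every function on a square zero extension of `T`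
which vanishes after base change to `U` is zero, then the ring map is universally injective. -/
theorem univInjective_of_chart {X Y : Sp S} (f : X ⟶ Y)
    (hinj : ∀ (T : Over S) (g : (yon S).obj T ⟶ Y) (P : Sp S) (fst : P ⟶ X)
      (snd : P ⟶ (yon S).obj T), IsPullback fst snd f g →
      ∀ s : Γ(T.left, ⊤),
        (∀ (W : Over S) (a : (yon S).obj W ⟶ P) (c : W ⟶ T),
          a ≫ snd = (yon S).map c → c.left.appTop s = 0) → s = 0)
    {T U : Over S} [IsAffine T.left] (g : (yon S).obj T ⟶ Y)
    (a : (yon S).obj U ⟶ pullback f g) (ha : RepWith @Etale a) (has : RepWith @Surjective a)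
    (v : U ⟶ T) (hv : a ≫ pullback.snd f g = (yon S).map v) :
    letI := v.left.appTop.hom.toAlgebra
    Pi1.UnivInjective Γ(T.left, ⊤) Γ(U.left, ⊤) := by
  letI := v.left.appTop.hom.toAlgebra
  intro P _ _
  rw [injective_iff_map_eq_zero]
  intro z hz
  obtain ⟨m, rfl⟩ := (TensorProduct.rid Γ(T.left, ⊤) P).symm.surjective z
  suffices hm0 : m = 0 by rw [hm0, map_zero]
  have hm : m ⊗ₜ[Γ(T.left, ⊤)] (1 : Γ(U.left, ⊤)) = 0 := by simpa using hz
  letI : Module (Γ(T.left, ⊤))ᵐᵒᵖ P :=
    Module.compHom P ((RingHom.id Γ(T.left, ⊤)).fromOpposite fun x y => mul_comm x y)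
  haveI : IsCentralScalar Γ(T.left, ⊤) P := ⟨fun r p => rfl⟩
  let A' := CommRingCat.of (TrivSqZeroExt Γ(T.left, ⊤) P)
  let π : Γ(T.left, ⊤) ⟶ A' :=
    CommRingCat.ofHom (TrivSqZeroExt.inlHom Γ(T.left, ⊤) P)
  let T' : Over S := Over.mk ((Spec.map π ≫ T.left.isoSpec.inv) ≫ T.hom)
  let φ : T' ⟶ T := Over.homMk (Spec.map π ≫ T.left.isoSpec.inv) rfl
  let σ : A' ⟶ Γ(T'.left, ⊤) := (Scheme.ΓSpecIso A').inv
  have hφ : φ.left.appTop = π ≫ σ := by
    show (Spec.map π ≫ T.left.isoSpec.inv).appTop = π ≫ (Scheme.ΓSpecIso A').inv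
    rw [Scheme.Hom.comp_appTop, isoSpec_inv_appTop', Scheme.ΓSpecIso_inv_naturality]
  let s : Γ(T'.left, ⊤) := σ (TrivSqZeroExt.inr m)
  have hs : s = 0 := by
    refine hinj T' ((yon S).map φ ≫ g) _ _ _ (IsPullback.of_hasPullback _ _) s fun W b c hb => ?_
    let b' : (yon S).obj W ⟶ pullback f g :=
      pullback.lift (b ≫ pullback.fst _ _) (b ≫ pullback.snd _ _ ≫ (yon S).map φ)
        (by simp [pullback.condition])
    let W' := ha.rep.pullback b'
    let q : W' ⟶ W := ha.rep.snd b'
    let l : W' ⟶ U := ha.rep.fst' b'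
    have : Etale q.left := ha.property_snd b'
    have : Surjective q.left := has.2 b' _ _ (ha.rep.isPullback b')
    have hl : l ≫ v = q ≫ c ≫ φ := by
      apply (yon S).map_injective
      simp only [Functor.map_comp, ← hv]
      rw [← Category.assoc, show (yon S).map l ≫ a = (yon S).map q ≫ b' from (ha.rep.isPullback' b').w,
        Category.assoc, pullback.lift_snd, ← hb, Category.assoc]
    have : Epi q.left := Flat.epi_of_flat_of_surjective _
    apply GrpSchLib.AntiAffine.appTop_injective_of_epi q.left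
    rw [map_zero]
    let i : A' →+* Γ(W'.left, ⊤) := (σ ≫ (q ≫ c).left.appTop).hom
    let j : Γ(U.left, ⊤) →+* Γ(W'.left, ⊤) := l.left.appTop.hom
    have hij : ∀ x, i (TrivSqZeroExt.inl x) = j (algebraMap _ _ x) := fun x => by
      show (σ ≫ (q ≫ c).left.appTop).hom (π x) = (v.left.appTop ≫ l.left.appTop).hom x
      have e : l.left ≫ v.left = (q ≫ c).left ≫ φ.left := by
        simpa [Category.assoc] using congrArg CommaMorphism.left hl
      rw [← Scheme.Hom.comp_appTop, e, Scheme.Hom.comp_appTop, hφ]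
      rfl
    letI := (i.comp (TrivSqZeroExt.inlHom Γ(T.left, ⊤) P)).toAlgebra
    let B : P →ₗ[Γ(T.left, ⊤)] Γ(U.left, ⊤) →ₗ[Γ(T.left, ⊤)] Γ(W'.left, ⊤) :=
      LinearMap.mk₂ _ (fun p x => i (TrivSqZeroExt.inr p) * j x)
        (fun p p' x => by rw [TrivSqZeroExt.inr_add, map_add, add_mul])
        (fun r p x => by
          rw [← TrivSqZeroExt.inl_mul_inr, map_mul, Algebra.smul_def, RingHom.algebraMap_toAlgebra,
            mul_assoc]
          rfl)
        (fun p x x' => by rw [map_add, mul_add])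
        (fun r p x => by
          rw [Algebra.smul_def r x, map_mul, ← hij, Algebra.smul_def r (_ * _),
            RingHom.algebraMap_toAlgebra, RingHom.comp_apply, mul_left_comm]
          rfl)
    have h0 := congrArg (TensorProduct.lift B) hm
    rw [TensorProduct.lift.tmul, map_zero] at h0
    simp only [B, LinearMap.mk₂_apply, map_one, mul_one] at h0
    exact h0
  have h2 : (TrivSqZeroExt.inr m : TrivSqZeroExt Γ(T.left, ⊤) P) = 0 :=
    (Scheme.ΓSpecIso A').commRingCatIsoToRingEquiv.symm.injective (hs.trans (map_zero _).symm)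
  simpa using congrArg TrivSqZeroExt.snd h2

/-- A map of affine schemes with universally injective ring map and etale pullback along itself is etale
and surjective. -/
theorem etale_surjective_of_univInjective {U T R : Scheme.{u}} [IsAffine U] [IsAffine T] (v : U ⟶ T)
    (h : letI := v.appTop.hom.toAlgebra; Pi1.UnivInjective Γ(T, ⊤) Γ(U, ⊤))
    {p q : R ⟶ U} (sq : IsPullback p q v v) (hp : Etale p) : Etale v ∧ Surjective v := by
  letI := v.appTop.hom.toAlgebra
  have sq₁ : IsPullback (p ≫ U.isoSpec.hom) (q ≫ U.isoSpec.hom) (Spec.map v.appTop) (Spec.map v.appTop) :=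
    sq.of_iso (Iso.refl _) U.isoSpec U.isoSpec T.isoSpec (by simp) (by simp)
      (Scheme.isoSpec_hom_naturality v).symm (Scheme.isoSpec_hom_naturality v).symm
  have sq₂ := isPullback_SpecMap_of_isPushout _ _ _ _
    (CommRingCat.isPushout_tensorProduct Γ(T, ⊤) Γ(U, ⊤) Γ(U, ⊤))
  have he : Etale (Spec.map (CommRingCat.ofHom
      (Algebra.TensorProduct.includeLeftRingHom : Γ(U, ⊤) →+* Γ(U, ⊤) ⊗[Γ(T, ⊤)] Γ(U, ⊤)))) := by
    rw [← sq₂.isoIsPullback_hom_fst _ _ sq₁]
    infer_instance
  rw [HasRingHomProperty.Spec_iff (P := @Etale)] at he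
  have : Algebra.Etale Γ(U, ⊤) (Γ(U, ⊤) ⊗[Γ(T, ⊤)] Γ(U, ⊤)) := RingHom.etale_algebraMap.1 he
  have he' : Algebra.Etale Γ(T, ⊤) Γ(U, ⊤) := Pi1X.etale_descends h _
  have h1 : Etale (Spec.map v.appTop) :=
    (HasRingHomProperty.Spec_iff (P := @Etale)).2 (RingHom.etale_algebraMap.2 he')
  have h2 : Surjective (Spec.map v.appTop) := ⟨comap_surjective_of_univInjective h⟩
  have hv : v = U.isoSpec.hom ≫ Spec.map v.appTop ≫ T.isoSpec.inv := by
    rw [← Category.assoc, Scheme.isoSpec_hom_naturality, Category.assoc, Iso.hom_inv_id, Category.comp_id]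
  constructor <;> · rw [hv]; infer_instance

theorem isIso_snd_of_affine {X Y : Sp S} (hX : IsAlgSpace X) (hY : IsAlgSpace Y) (f : X ⟶ Y) [Mono f]
    (hqc : IsQuasiCompactMor f)
    (hinj : ∀ (T : Over S) (g : (yon S).obj T ⟶ Y) (P : Sp S) (fst : P ⟶ X)
      (snd : P ⟶ (yon S).obj T), IsPullback fst snd f g →
      ∀ s : Γ(T.left, ⊤),
        (∀ (W : Over S) (a : (yon S).obj W ⟶ P) (c : W ⟶ T),
          a ≫ snd = (yon S).map c → c.left.appTop s = 0) → s = 0)
    {T : Over S} [IsAffine T.left] (g : (yon S).obj T ⟶ Y) : IsIso (pullback.snd f g) := by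
  have hP : IsAlgSpace (pullback f g) := isAlgSpace_pullback hX (IsAlgSpace.yon_obj T) hY f g
  obtain ⟨U, a, hU, ha, has⟩ := AlgSpDec.exists_affine_atlas
    (hqc (IsAlgSpace.yon_obj T) (isQuasiCompactSp_yon T) g _ _ (IsPullback.of_hasPullback f g))
  let v : U ⟶ T := (yon S).preimage (a ≫ pullback.snd f g)
  have hv : a ≫ pullback.snd f g = (yon S).map v := ((yon S).map_preimage _).symm
  let R := ha.rep.pullback a
  have sqa : IsPullback ((yon S).map (ha.rep.fst' a)) ((yon S).map (ha.rep.snd a)) a a :=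
    ha.rep.isPullback' a
  have sqv : IsPullback ((yon S).map (ha.rep.fst' a)) ((yon S).map (ha.rep.snd a))
      ((yon S).map v) ((yon S).map v) := by
    refine IsPullback.of_isLimit' ⟨by rw [← hv, ← Category.assoc, ← Category.assoc, sqa.w]⟩
      (PullbackCone.IsLimit.mk _
        (fun s => sqa.lift s.fst s.snd ((cancel_mono (pullback.snd f g)).1
          (by rw [Category.assoc, Category.assoc, hv]; exact s.condition)))
        (fun s => sqa.lift_fst _ _ _) (fun s => sqa.lift_snd _ _ _)
        (fun s m h₁ h₂ => sqa.hom_ext (h₁.trans (sqa.lift_fst _ _ _).symm)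
          (h₂.trans (sqa.lift_snd _ _ _).symm)))
  have : IsAffine U.left := hU
  obtain ⟨hve, hvs⟩ := etale_surjective_of_univInjective v.left
    (univInjective_of_chart f hinj g a ha has v hv) (AlgSpDec.isPullback_of_yon sqv)
    (by
      have := ha.property a _ _ (ha.rep.isPullback' a).flip
      exact this)
  refine isIso_of_mono_of_etale_surjective hP (IsAlgSpace.yon_obj T) _
    (locP_of_chart ha has (repWith_id _ T) (by rw [hv, Category.comp_id]) hve) ?_
  intro y
  obtain ⟨u, hu⟩ := surjective_map_of_repWith ((repWith_yon_map_iff @Surjective v).2 hvs) y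
  exact ⟨Points.map a u, by rw [← Points.map_comp, hv, hu]⟩

theorem isIso_of_qc_mono_of_sections_injective {X Y : Sp S} (hX : IsAlgSpace X) (hY : IsAlgSpace Y)
    (f : X ⟶ Y) [Mono f] (hqc : IsQuasiCompactMor f)
    (hinj : ∀ (T : Over S) (g : (yon S).obj T ⟶ Y) (P : Sp S) (fst : P ⟶ X)
      (snd : P ⟶ (yon S).obj T), IsPullback fst snd f g →
      ∀ s : Γ(T.left, ⊤),
        (∀ (W : Over S) (a : (yon S).obj W ⟶ P) (c : W ⟶ T),
          a ≫ snd = (yon S).map c → c.left.appTop s = 0) → s = 0) : IsIso f := by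
  have : Sheaf.IsLocallySurjective f := by
    refine ⟨fun {T} x => AlgSpDec.mem_J_of_openCover T.left.affineCover _ fun i => ?_⟩
    let t : (yon S).obj T ⟶ Y := (J S).uliftYonedaEquiv.symm x
    let ι : Over.mk (T.left.affineCover.f i ≫ T.hom) ⟶ T := Over.homMk (T.left.affineCover.f i) rfl
    have : IsAffine (Over.mk (T.left.affineCover.f i ≫ T.hom)).left :=
      inferInstanceAs (IsAffine (T.left.affineCover.X i))
    have := isIso_snd_of_affine hX hY f hqc hinj ((yon S).map ι ≫ t)
    let l := inv (pullback.snd f ((yon S).map ι ≫ t)) ≫ pullback.fst _ _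
    have hl : l ≫ f = (yon S).map ι ≫ t := by simp [l, pullback.condition]
    refine ⟨(J S).uliftYonedaEquiv l, ?_⟩
    have h1 := uliftYonedaEquiv_precomp ι t
    rw [Equiv.apply_symm_apply, ← hl, GrothendieckTopology.uliftYonedaEquiv_comp] at h1
    exact h1.symm
  exact isIso_of_mono_of_locallySurjective f

end Groth.Agent.AlgSpLib
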