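import Groth.Agent.AlgSpLib.ThickProps
import Groth.Agent.AlgSpLib.ThickScheme
import Groth.Agent.AlgSpDec.MonoTfae

/-!
# Closed immersions are detected on a closed subspace with the same points
-/

set_option autoImplicit false
set_option backward.isDefEq.respectTransparency false
set_option backward.isDefEq.respectTransparency.types false

universe u

open CategoryTheory CategoryTheory.Limits AlgebraicGeometry Opposite AlgSp Topology

namespace Groth.Agent.AlgSpLib.ThickClosedImm

open ThickCart

theorem isNilpotent_ker {U₀ U : Scheme.{u}} [IsAffine U] (c : U₀ ⟶ U) [IsClosedImmersion c] [Surjective c]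
    [LocallyOfFinitePresentation c] : IsNilpotent c.ker := by
  have : IsAffine U₀ := isAffine_of_isAffineHom c
  have hfp : c.appTop.hom.FinitePresentation :=
    HasRingHomProperty.appTop (P := @LocallyOfFinitePresentation) c ‹_›
  have hs : Function.Surjective c.appTop.hom := c.app_surjective _ (isAffineOpen_top U)
  have hfg : (RingHom.ker c.appTop.hom).FG := by
    letI := c.appTop.hom.toAlgebra
    have : Algebra.FinitePresentation Γ(U, ⊤) Γ(U₀, ⊤) := hfp
    exact Algebra.FinitePresentation.ker_fG_of_surjective (Algebra.ofId Γ(U, ⊤) Γ(U₀, ⊤)) hs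
  obtain ⟨n, hn⟩ := (Ideal.FG.isNilpotent_iff_le_nilradical hfg).2 (ker_appTop_le_nilradical c)
  refine ⟨n, ?_⟩
  apply (Scheme.IdealSheafData.equivOfIsAffine (X := U)).injective
  rw [map_pow, map_zero]
  exact (congrArg (· ^ n) (Scheme.Hom.ker_apply c ⟨⊤, isAffineOpen_top U⟩)).trans hn

variable {S : Scheme.{u}}

theorem lft_of_fp {X X' Y Y' : Sp S} {i : X ⟶ X'} {j : Y ⟶ Y'} {f : X ⟶ Y} {f' : X' ⟶ Y'}
    (hX' : IsAlgSpace X') (hY' : IsAlgSpace Y') (hi : IsThickMor i) (hifp : RepWith @LocallyOfFinitePresentation i)
    (hj : IsThickMor j) (hc : IsPullback i f f' j) (hf : LocP @LocallyOfFiniteType f) :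
    LocP @LocallyOfFiniteType f' :=
  locP_lift hX' hY' hi hj hc hf fun {U V U' V'} a' b' h' a iU jV h ha _ _ hjV sqU sq hh => by
    have : LocallyOfFinitePresentation iU.left := hifp.2 a' a iU sqU
    have := (ThickDeform.isThickening_baseChange hjV sq).1
    have := (ThickDeform.isThickening_baseChange hjV sq).2
    have : LocallyOfFiniteType h.left := hh
    refine IsZariskiLocalAtSource.of_openCover (P := @LocallyOfFiniteType) U'.left.affineCover fun k => ?_
    let c := U'.left.affineCover.f k
    have : IsAffine (U'.left.affineCover.X k) := inferInstance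
    have sq' := IsPullback.of_hasPullback iU.left c
    have hh' : LocallyOfFiniteType (pullback.fst iU.left c ≫ h.left) := inferInstance
    exact ThickFactor.locallyOfFiniteType_lift hjV (sq'.flip.paste_vert sq) (isNilpotent_ker (pullback.snd iU.left c))

theorem repWith_closedImmersion_of_bijective {X B B' : Space S} (f : X ⟶ B) (g : B' ⟶ B)
    (hg : RepWith @IsClosedImmersion g.hom) (hbij : Function.Bijective (Points.map g.hom))
    {X' : Sp S} {fst : X' ⟶ X.obj} {snd : X' ⟶ B'.obj} (hX' : IsPullback fst snd f.hom g.hom)
    (hsnd : RepWith @IsClosedImmersion snd) (hor : IsFiniteTypeMor f.hom ∨ IsFinitePresentationMor g.hom) :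
    RepWith @IsClosedImmersion f.hom := by
  have hsur : RepWith @Surjective g.hom := repWith_surjective_of_surjective hg.rep hbij.2
  have hj : IsThickMor g.hom := ⟨hg.rep, fun a b k fst snd sq => ⟨hg.2 k fst snd sq, hsur.2 k fst snd sq⟩⟩
  have hi : IsThickMor fst := repWith_of_isPullback hX'.flip hj
  have hXA : IsAlgSpace X' := isAlgSpace_of_isPullback hX' X.property B'.property B.property
  have hl : LocP @LocallyOfFiniteType f.hom := by
    rcases hor with h | h
    · exact h.1
    · have : LocP @LocallyOfFiniteType snd := locP_of_repWith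
        (repWith_mono (fun _ _ k (hk : IsClosedImmersion k) => (inferInstance : LocallyOfFiniteType k)) _ hsnd)
      exact lft_of_fp X.property B.property hi
        (repWith_of_isPullback hX'.flip (repWith_of_locP B.property hg.rep h.1)) hj hX' this
  exact (ThickProps.isClosedImmersion_iff_of_lft hXA X.property B'.property B.property hi hj hX' hl).1 hsnd

end Groth.Agent.AlgSpLib.ThickClosedImm
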